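import Groth.Agent.S17758
import Groth.Agent.S2654
import Groth.Agent.S0599
import Groth.Agent.S0567
import Groth.Agent.Hensel.K140.LocalJ2
import Groth.Agent.Models.RMGRing
import Groth.Agent.Ega4A.CplQuot
import Groth.Agent.FlatA.DimFin

/-!
# Connectedness of punctured linear sections of integral extensions of normal local G-rings

Let `B1` be a normal local G-ring of dimension at least `r + 2`, let `f_1, …, f_r` be elements of its
maximal ideal and let `N` be a normal local domain integral over `B1`.  Then the set of the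
non-maximal primes of `N` containing `f_1, …, f_r` is connected.
-/

set_option autoImplicit false
universe u

namespace K155.ConnInt

open IsLocalRing

/-- Finite case: a normal local G-ring. -/
theorem isConnected_of_isGRing (A : Type u) [CommRing A] [IsDomain A] [IsLocalRing A]
    [IsIntegrallyClosed A] (hG : CAlg.IsGRing A) {r : ℕ}
    (hdim : ((r + 2 : ℕ) : WithBot ℕ∞) ≤ ringKrullDim A) (f : Fin r → A)
    (hf : ∀ i, f i ∈ maximalIdeal A) :
    IsConnected {x : PrimeSpectrum A | (∀ i, f i ∈ x.asIdeal) ∧ ¬ x.asIdeal.IsMaximal} := by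
  have hN : IsNoetherianRing A := hG.1
  have hNR := Groth.Agent.Ega4A.CplQuot.isNoetherianRing_cpl A
  have hreg := (Groth.Agent.CalgB.GRing2.isGRing_iff_of_isLocalRing A).1 hG
  have hdom : IsDomain (AdicCompletion (maximalIdeal A) A) :=
    (Groth.Agent.Models.RMGRing.of_isNormalRing (Groth.Agent.S2641.good_normal.asc _ _ hreg
      Groth.Agent.Models.RMGRing.isNormalRing)).1
  have hdimR : ringKrullDim (AdicCompletion (maximalIdeal A) A) = ringKrullDim A :=
    Groth.Agent.Ega4A.CplQuot.ringKrullDim_cpl A
  have hff : Module.FaithfullyFlat A (AdicCompletion (maximalIdeal A) A) :=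
    Groth.Agent.Ega4A.CplQuot.faithfullyFlat_cpl A
  have hloc : IsLocalHom (algebraMap A (AdicCompletion (maximalIdeal A) A)) :=
    Groth.Agent.Ega4A.CplQuot.isLocalHom_cpl A
  have hmap : maximalIdeal (AdicCompletion (maximalIdeal A) A) =
      (maximalIdeal A).map (algebraMap A (AdicCompletion (maximalIdeal A) A)) :=
    AdicCompletion.maximalIdeal_eq_map
  have hcomap : (maximalIdeal (AdicCompletion (maximalIdeal A) A)).comap
      (algebraMap A (AdicCompletion (maximalIdeal A) A)) = maximalIdeal A :=
    IsLocalRing.maximalIdeal_comap _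
  have hcpl : IsAdicComplete (maximalIdeal (AdicCompletion (maximalIdeal A) A))
      (AdicCompletion (maximalIdeal A) A) := by
    infer_instance
  obtain ⟨d, hd⟩ : ∃ d : ℕ, ringKrullDim (AdicCompletion (maximalIdeal A) A) = d := by
    have h1 := ringKrullDim_lt_top (R := AdicCompletion (maximalIdeal A) A)
    have h2 := ringKrullDim_ne_bot (R := AdicCompletion (maximalIdeal A) A)
    obtain ⟨d, hd⟩ := WithBot.ne_bot_iff_exists.1 h2
    rw [← hd] at h1
    obtain ⟨d', hd'⟩ := ENat.ne_top_iff_exists.1 (ne_of_lt (WithBot.coe_lt_coe.1 h1))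
    refine ⟨d', ?_⟩
    rw [← hd, ← hd']
    rfl
  have ht : r + 2 ≤ d := by
    rw [← hdimR, hd] at hdim
    exact_mod_cast hdim
  have hI : Ideal.span (Set.range (fun i => algebraMap A (AdicCompletion (maximalIdeal A) A) (f i)))
      ≤ maximalIdeal (AdicCompletion (maximalIdeal A) A) := by
    rw [Ideal.span_le]
    rintro _ ⟨i, rfl⟩
    have : f i ∈ (maximalIdeal (AdicCompletion (maximalIdeal A) A)).comap
      (algebraMap A (AdicCompletion (maximalIdeal A) A)) := by
      rw [hcomap]
      exact hf i
    exact this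
  have h := Groth.Agent.S17758.result (AdicCompletion (maximalIdeal A) A) d hd r ht
    (fun i => algebraMap A (AdicCompletion (maximalIdeal A) A) (f i))
    (Ideal.span (Set.range (fun i => algebraMap A (AdicCompletion (maximalIdeal A) A) (f i))))
    (fun htop => (maximalIdeal.isMaximal _).ne_top (top_le_iff.1 (htop ▸ hI))) rfl
  have himg : {x : PrimeSpectrum A | (∀ i, f i ∈ x.asIdeal) ∧ ¬ x.asIdeal.IsMaximal} =
      PrimeSpectrum.comap (algebraMap A (AdicCompletion (maximalIdeal A) A)) ''
        {x : PrimeSpectrum (AdicCompletion (maximalIdeal A) A) |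
          Ideal.span (Set.range (fun i => algebraMap A (AdicCompletion (maximalIdeal A) A) (f i))) ≤
            x.asIdeal ∧ x.asIdeal ≠ maximalIdeal (AdicCompletion (maximalIdeal A) A)} := by
    ext x
    constructor
    · rintro ⟨h1, h2⟩
      obtain ⟨y, rfl⟩ := PrimeSpectrum.comap_surjective_of_faithfullyFlat
        (A := A) (B := AdicCompletion (maximalIdeal A) A) x
      refine ⟨y, ⟨?_, ?_⟩, rfl⟩
      · rw [Ideal.span_le]
        rintro _ ⟨i, rfl⟩
        exact h1 i
      · intro h3
        apply h2
        have : (PrimeSpectrum.comap (algebraMap A (AdicCompletion (maximalIdeal A) A)) y).asIdeal =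
            maximalIdeal A := by
          rw [PrimeSpectrum.comap_asIdeal, h3, hcomap]
        rw [this]
        infer_instance
    · rintro ⟨y, ⟨h1, h2⟩, rfl⟩
      refine ⟨fun i => h1 (Ideal.subset_span ⟨i, rfl⟩), fun h3 => h2 ?_⟩
      have h4 : (PrimeSpectrum.comap (algebraMap A (AdicCompletion (maximalIdeal A) A)) y).asIdeal =
          maximalIdeal A := IsLocalRing.eq_maximalIdeal h3
      rw [PrimeSpectrum.comap_asIdeal] at h4
      have h5 : maximalIdeal (AdicCompletion (maximalIdeal A) A) ≤ y.asIdeal := by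
        rw [hmap, Ideal.map_le_iff_le_comap, h4]
      exact le_antisymm (IsLocalRing.le_maximalIdeal y.2.ne_top) h5
  rw [himg]
  exact h.image _ (PrimeSpectrum.continuous_comap _).continuousOn

/-- Descent of preconnectedness along a cofinal family of subalgebras. -/
theorem isPreconnected_of_cofinal {B N : Type u} [CommRing B] [IsLocalRing B] [CommRing N]
    [Algebra B N] [Algebra.IsIntegral B N] (hm : (maximalIdeal B).FG) {ι : Type*} (f : ι → B)
    (h : ∀ s : Finset N, ∃ S : Subalgebra B N, (∀ x ∈ s, x ∈ S) ∧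
      IsPreconnected {x : PrimeSpectrum S |
        (∀ i, algebraMap B S (f i) ∈ x.asIdeal) ∧ ¬ x.asIdeal.IsMaximal}) :
    IsPreconnected {x : PrimeSpectrum N |
      (∀ i, algebraMap B N (f i) ∈ x.asIdeal) ∧ ¬ x.asIdeal.IsMaximal} := by
  classical
  have hmaxiff : ∀ x : PrimeSpectrum N, x.asIdeal.IsMaximal ↔
      (x.asIdeal.comap (algebraMap B N)).IsMaximal := fun x =>
    ⟨fun hx => Ideal.isMaximal_comap_of_isIntegral_of_isMaximal _,
      fun hx => Ideal.isMaximal_of_isIntegral_of_isMaximal_comap _ hx⟩
  have hZc : IsCompact {x : PrimeSpectrum N |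
      (∀ i, algebraMap B N (f i) ∈ x.asIdeal) ∧ ¬ x.asIdeal.IsMaximal} := by
    obtain ⟨G, hG⟩ := hm
    have hZ : {x : PrimeSpectrum N |
        (∀ i, algebraMap B N (f i) ∈ x.asIdeal) ∧ ¬ x.asIdeal.IsMaximal} =
        ⋃ g ∈ (G : Set B), ((PrimeSpectrum.basicOpen (algebraMap B N g) : Set (PrimeSpectrum N)) ∩
          PrimeSpectrum.zeroLocus (Set.range (fun i => algebraMap B N (f i)))) := by
      ext x
      simp only [Set.mem_ofPred_eq, Set.mem_iUnion, Set.mem_inter_iff, SetLike.mem_coe,
        PrimeSpectrum.mem_basicOpen, PrimeSpectrum.mem_zeroLocus, Set.range_subset_iff,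
        exists_prop]
      constructor
      · rintro ⟨h1, h2⟩
        rw [hmaxiff] at h2
        by_contra hcon
        push Not at hcon
        apply h2
        have h3 : maximalIdeal B ≤ x.asIdeal.comap (algebraMap B N) := by
          rw [← hG, Ideal.span_le]
          intro g hg
          by_contra hg2
          obtain ⟨i, hi⟩ := hcon g hg hg2
          exact hi (h1 i)
        have h4 : x.asIdeal.comap (algebraMap B N) = maximalIdeal B :=
          le_antisymm (IsLocalRing.le_maximalIdeal (x.2.comap (algebraMap B N)).ne_top) h3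
        rw [h4]
        infer_instance
      · rintro ⟨g, hg, h1, h2⟩
        refine ⟨h2, ?_⟩
        rw [hmaxiff]
        intro h3
        have h4 := IsLocalRing.eq_maximalIdeal h3
        apply h1
        have h5 : g ∈ x.asIdeal.comap (algebraMap B N) := by
          rw [h4, ← hG]
          exact Ideal.subset_span hg
        exact h5
    rw [hZ]
    exact G.finite_toSet.isCompact_biUnion fun g _ =>
      (PrimeSpectrum.isCompact_basicOpen _).inter_right (PrimeSpectrum.isClosed_zeroLocus _)
  intro u v hu hv huv hZu hZv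
  have hbas : ∀ (w : Set (PrimeSpectrum N)), IsOpen w → ∀ x ∈ w, ∃ a : N,
      a ∉ x.asIdeal ∧ (PrimeSpectrum.basicOpen a : Set (PrimeSpectrum N)) ⊆ w := by
    intro w hw x hx
    obtain ⟨_, ⟨a, rfl⟩, h1, h2⟩ :=
      PrimeSpectrum.isTopologicalBasis_basic_opens.exists_subset_of_mem_open hx hw
    exact ⟨a, h1, h2⟩
  obtain ⟨x0, hx0, hx0u⟩ := hZu
  obtain ⟨y0, hy0, hy0v⟩ := hZv
  obtain ⟨a0, ha0, ha0'⟩ := hbas u hu x0 hx0u
  obtain ⟨b0, hb0, hb0'⟩ := hbas v hv y0 hy0v
  obtain ⟨t, ht⟩ := hZc.elim_finite_subcover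
    (fun a : {a : N // (PrimeSpectrum.basicOpen a : Set (PrimeSpectrum N)) ⊆ u ∨
      (PrimeSpectrum.basicOpen a : Set (PrimeSpectrum N)) ⊆ v} =>
        (PrimeSpectrum.basicOpen a.1 : Set (PrimeSpectrum N)))
    (fun a => (PrimeSpectrum.basicOpen a.1).isOpen) (by
      intro x hx
      rcases huv hx with h1 | h1
      · obtain ⟨a, ha, ha'⟩ := hbas u hu x h1
        exact Set.mem_iUnion.2 ⟨⟨a, Or.inl ha'⟩, ha⟩
      · obtain ⟨a, ha, ha'⟩ := hbas v hv x h1
        exact Set.mem_iUnion.2 ⟨⟨a, Or.inr ha'⟩, ha⟩)
  obtain ⟨S, hsS, hS⟩ := h (insert a0 (insert b0 (t.image Subtype.val)))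
  have hint : Algebra.IsIntegral S N := Algebra.IsIntegral.tower_top B
  have hmaxS : ∀ x : PrimeSpectrum N,
      (PrimeSpectrum.comap (algebraMap S N) x).asIdeal.IsMaximal ↔ x.asIdeal.IsMaximal := fun x =>
    ⟨fun hx => Ideal.isMaximal_of_isIntegral_of_isMaximal_comap _ hx,
      fun hx => Ideal.isMaximal_comap_of_isIntegral_of_isMaximal _⟩
  have hfS : ∀ (x : PrimeSpectrum N) (i : ι),
      algebraMap B S (f i) ∈ (PrimeSpectrum.comap (algebraMap S N) x).asIdeal ↔
        algebraMap B N (f i) ∈ x.asIdeal := fun x i => Iff.rfl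
  have hop : ∀ w : Set (PrimeSpectrum N), IsOpen {z : PrimeSpectrum S |
      ∃ a : S, (PrimeSpectrum.basicOpen (a : N) : Set (PrimeSpectrum N)) ⊆ w ∧ a ∉ z.asIdeal} := by
    intro w
    have : {z : PrimeSpectrum S | ∃ a : S,
        (PrimeSpectrum.basicOpen (a : N) : Set (PrimeSpectrum N)) ⊆ w ∧ a ∉ z.asIdeal} =
        ⋃ (a : S) (_ : (PrimeSpectrum.basicOpen (a : N) : Set (PrimeSpectrum N)) ⊆ w),
          (PrimeSpectrum.basicOpen a : Set (PrimeSpectrum S)) := by
      ext z
      simp only [Set.mem_ofPred_eq, Set.mem_iUnion, SetLike.mem_coe, PrimeSpectrum.mem_basicOpen,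
        exists_prop]
    rw [this]
    exact isOpen_iUnion fun a => isOpen_iUnion fun _ => (PrimeSpectrum.basicOpen a).isOpen
  have hlift : ∀ z : PrimeSpectrum S, ((∀ i, algebraMap B S (f i) ∈ z.asIdeal) ∧
      ¬ z.asIdeal.IsMaximal) → ∃ x : PrimeSpectrum N, PrimeSpectrum.comap (algebraMap S N) x = z ∧
        (∀ i, algebraMap B N (f i) ∈ x.asIdeal) ∧ ¬ x.asIdeal.IsMaximal := by
    intro z hz
    obtain ⟨x, hx⟩ := Groth.Agent.FlatA.DimFin.comap_surjective_of_isIntegral S N
      Subtype.val_injective z
    subst hx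
    exact ⟨x, rfl, fun i => (hfS x i).1 (hz.1 i), fun h1 => hz.2 ((hmaxS x).2 h1)⟩
  obtain ⟨z, hz, ⟨a, hau, haz⟩, b, hbv, hbz⟩ := hS _ _ (hop u) (hop v) (by
    intro z hz
    obtain ⟨x, rfl, hx⟩ := hlift z hz
    obtain ⟨a, ha⟩ := Set.mem_iUnion.1 (ht hx)
    obtain ⟨hat, hax⟩ := Set.mem_iUnion.1 ha
    have haS : a.1 ∈ S := hsS _ (Finset.mem_insert_of_mem (Finset.mem_insert_of_mem
      (Finset.mem_image_of_mem _ hat)))
    rcases a.2 with h1 | h1
    · exact Or.inl ⟨⟨a.1, haS⟩, h1, hax⟩
    · exact Or.inr ⟨⟨a.1, haS⟩, h1, hax⟩)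
    ⟨PrimeSpectrum.comap (algebraMap S N) x0,
      ⟨fun i => (hfS x0 i).2 (hx0.1 i), fun h1 => hx0.2 ((hmaxS x0).1 h1)⟩,
      ⟨⟨a0, hsS _ (Finset.mem_insert_self _ _)⟩, ha0', ha0⟩⟩
    ⟨PrimeSpectrum.comap (algebraMap S N) y0,
      ⟨fun i => (hfS y0 i).2 (hy0.1 i), fun h1 => hy0.2 ((hmaxS y0).1 h1)⟩,
      ⟨⟨b0, hsS _ (Finset.mem_insert_of_mem (Finset.mem_insert_self _ _))⟩, hb0', hb0⟩⟩
  obtain ⟨x, rfl, hx⟩ := hlift z hz
  exact ⟨x, hx, hau haz, hbv hbz⟩

section Cofinal

variable (B N : Type u) [CommRing B] [CommRing N] [Algebra B N]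
variable (K L : Type u) [Field K] [Field L] [Algebra B K] [Algebra B L] [Algebra K L] [Algebra N L]
  [IsScalarTower B K L] [IsScalarTower B N L]

/-- The elements of `N` lying in the intermediate field `F`. -/
def sub (F : IntermediateField K L) : Subalgebra B N :=
  (F.toSubalgebra.restrictScalars B).comap (IsScalarTower.toAlgHom B N L)

variable {B N K L}

theorem mem_sub {F : IntermediateField K L} {x : N} :
    x ∈ sub B N K L F ↔ algebraMap N L x ∈ F := Iff.rfl

/-- The comparison with the integral closure of `B` in `F`. -/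
theorem exists_equiv [IsDomain N] [IsIntegrallyClosed N] [Algebra.IsIntegral B N]
    [IsFractionRing N L] (F : IntermediateField K L) :
    Nonempty (integralClosure B F ≃ₐ[B] sub B N K L F) := by
  have hNL : IsIntegralClosure N B L := IsIntegralClosure.of_isIntegrallyClosed N B L
  have h1 : ∀ x : integralClosure B F, ∃ y : sub B N K L F,
      algebraMap N L (y : N) = ((x : F) : L) := by
    intro x
    have h2 : IsIntegral B ((x : F) : L) :=
      (x.2 : IsIntegral B (x : F)).map (F.val.restrictScalars B)
    obtain ⟨y, hy⟩ := hNL.isIntegral_iff.1 h2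
    exact ⟨⟨y, by rw [mem_sub, hy]; exact (x : F).2⟩, hy⟩
  choose g hg using h1
  have hinj := IsFractionRing.injective N L
  let φ : integralClosure B F →ₐ[B] sub B N K L F :=
    { toFun := g
      map_one' := Subtype.ext (hinj (by
        rw [hg]
        change (1 : L) = algebraMap N L 1
        rw [map_one]))
      map_mul' := fun x y => Subtype.ext (hinj (by
        rw [hg]
        change ((x : F) : L) * ((y : F) : L) = algebraMap N L ((g x : N) * (g y : N))
        rw [map_mul, hg, hg]))
      map_zero' := Subtype.ext (hinj (by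
        rw [hg]
        change (0 : L) = algebraMap N L 0
        rw [map_zero]))
      map_add' := fun x y => Subtype.ext (hinj (by
        rw [hg]
        change ((x : F) : L) + ((y : F) : L) = algebraMap N L ((g x : N) + (g y : N))
        rw [map_add, hg, hg]))
      commutes' := fun b => Subtype.ext (hinj (by
        rw [hg]
        change algebraMap B L b = algebraMap N L (algebraMap B N b)
        rw [← IsScalarTower.algebraMap_apply B N L])) }
  refine ⟨AlgEquiv.ofBijective φ ⟨fun x y hxy => ?_, fun y => ?_⟩⟩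
  · apply Subtype.ext
    apply Subtype.ext
    rw [← hg, ← hg]
    exact congrArg (fun z : sub B N K L F => algebraMap N L (z : N)) hxy
  · have h3 : IsIntegral B (⟨algebraMap N L (y : N), y.2⟩ : F) := by
      have h4 : IsIntegral B (algebraMap N L (y : N)) := hNL.isIntegral_iff.2 ⟨_, rfl⟩
      exact (isIntegral_algHom_iff (F.val.restrictScalars B) Subtype.val_injective).1 h4
    refine ⟨⟨_, h3⟩, Subtype.ext (hinj ?_)⟩
    exact hg _

end Cofinal

/-- A local G-ring is a Nagata ring. -/
theorem isNagata_of_isGRing (B : Type u) [CommRing B] [IsLocalRing B] (hG : CAlg.IsGRing B) :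
    CAlg.IsNagata B :=
  Groth.Agent.S2654.result B ⟨hG.1, hG, K140.LocalJ2.isJ2_of_isGRing B hG⟩

/-- Over a Nagata domain the integral closure in a finite extension of the fraction field is finite. -/
theorem finite_integralClosure (R K L : Type u) [CommRing R] [IsDomain R] (hR : CAlg.IsNagata R)
    [Field K] [Algebra R K] [IsFractionRing R K] [Field L] [Algebra K L] [FiniteDimensional K L]
    [Algebra R L] [IsScalarTower R K L] : Module.Finite R ↥(integralClosure R L) := by
  have h2 := ((Groth.Agent.S0567.result R).mp hR).2 R inferInstance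
  let i : FractionRing R ≃ₐ[R] K := FractionRing.algEquiv R K
  let _ : Algebra (FractionRing R) L := ((algebraMap K L).comp (i : FractionRing R →+* K)).toAlgebra
  have : IsScalarTower R (FractionRing R) L := IsScalarTower.of_algebraMap_eq (fun x => by
    change _ = algebraMap K L (i (algebraMap R (FractionRing R) x))
    rw [AlgEquiv.commutes, ← IsScalarTower.algebraMap_apply])
  let _ : Algebra (FractionRing R) K := (i : FractionRing R →+* K).toAlgebra
  have : IsScalarTower (FractionRing R) K L := IsScalarTower.of_algebraMap_eq (fun x => rfl)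
  have : Module.Finite (FractionRing R) K :=
    Module.Finite.of_surjective (Algebra.linearMap (FractionRing R) K) i.surjective
  have h3 : FiniteDimensional (FractionRing R) L := Module.Finite.trans K L
  exact h2 L h3

/-- A ring with a local integral extension is local. -/
theorem isLocalRing_of_isIntegral (S N : Type u) [CommRing S] [CommRing N] [IsLocalRing N]
    [Algebra S N] [Algebra.IsIntegral S N] (hinj : Function.Injective (algebraMap S N)) :
    IsLocalRing S := by
  have : Nontrivial S := (algebraMap S N).domain_nontrivial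
  have key : ∀ m : Ideal S, m.IsMaximal → m = (maximalIdeal N).comap (algebraMap S N) := by
    intro m hm
    obtain ⟨x, hx⟩ := Groth.Agent.FlatA.DimFin.comap_surjective_of_isIntegral S N hinj
      ⟨m, hm.isPrime⟩
    have h1 : x.asIdeal.comap (algebraMap S N) = m := congrArg PrimeSpectrum.asIdeal hx
    have h2 : x.asIdeal.IsMaximal :=
      Ideal.isMaximal_of_isIntegral_of_isMaximal_comap _ (by rw [h1]; exact hm)
    rw [← h1, IsLocalRing.eq_maximalIdeal h2]
  obtain ⟨m, hm⟩ := Ideal.exists_maximal S
  exact IsLocalRing.of_unique_max_ideal ⟨m, hm, fun m' hm' => (key m' hm').trans (key m hm).symm⟩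

/-- The finite level: the subalgebra attached to a finite subextension. -/
theorem isConnected_sub {B N K L : Type u} [CommRing B] [IsDomain B] [IsLocalRing B]
    (hG : CAlg.IsGRing B) [CommRing N] [IsDomain N] [IsLocalRing N] [IsIntegrallyClosed N]
    [Algebra B N] [Algebra.IsIntegral B N] [FaithfulSMul B N]
    [Field K] [Field L] [Algebra B K] [Algebra B L] [Algebra K L] [Algebra N L]
    [IsScalarTower B K L] [IsScalarTower B N L] [IsFractionRing B K] [IsFractionRing N L]
    {r : ℕ} (hdim : ((r + 2 : ℕ) : WithBot ℕ∞) ≤ ringKrullDim B) (f : Fin r → B)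
    (hf : ∀ i, f i ∈ maximalIdeal B) (F : IntermediateField K L) [FiniteDimensional K F] :
    IsConnected {x : PrimeSpectrum (sub B N K L F) |
      (∀ i, algebraMap B (sub B N K L F) (f i) ∈ x.asIdeal) ∧ ¬ x.asIdeal.IsMaximal} := by
  obtain ⟨e⟩ := exists_equiv (B := B) (N := N) (K := K) (L := L) F
  have hfin : Module.Finite B (integralClosure B F) :=
    finite_integralClosure B K F (isNagata_of_isGRing B hG)
  have hic : IsIntegrallyClosed (integralClosure B F) :=
    integralClosure.isIntegrallyClosedOfFiniteExtension K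
  have hfin' : Module.Finite B (sub B N K L F) := Module.Finite.equiv e.toLinearEquiv
  have hic' : IsIntegrallyClosed (sub B N K L F) := IsIntegrallyClosed.of_equiv e.toRingEquiv
  have hint : Algebra.IsIntegral (sub B N K L F) N := Algebra.IsIntegral.tower_top B
  have hloc : IsLocalRing (sub B N K L F) :=
    isLocalRing_of_isIntegral _ N Subtype.val_injective
  have hG' : CAlg.IsGRing (sub B N K L F) :=
    Groth.Agent.S0599.result B hG _
  have hinj : Function.Injective (algebraMap B (sub B N K L F)) := by
    intro a b hab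
    exact FaithfulSMul.algebraMap_injective B N (congrArg Subtype.val hab)
  have hd := Groth.Agent.FlatA.DimFin.ringKrullDim_eq_of_isIntegral_of_injective B
    (sub B N K L F) hinj
  refine isConnected_of_isGRing (sub B N K L F) hG' (hd.symm ▸ hdim) _ (fun i => ?_)
  have h1 : (maximalIdeal (sub B N K L F)).comap (algebraMap B (sub B N K L F)) =
      maximalIdeal B :=
    IsLocalRing.eq_maximalIdeal (Ideal.isMaximal_comap_of_isIntegral_of_isMaximal _)
  have h2 : f i ∈ (maximalIdeal (sub B N K L F)).comap (algebraMap B (sub B N K L F)) := by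
    rw [h1]
    exact hf i
  exact h2

/-- **Connectedness of punctured linear sections in integral extensions.** -/
theorem isConnected (B1 N : Type u) [CommRing B1] [IsDomain B1] [IsLocalRing B1]
    (hG : CAlg.IsGRing B1) [CommRing N] [IsDomain N] [IsLocalRing N] [IsIntegrallyClosed N]
    [Algebra B1 N] [FaithfulSMul B1 N] [Algebra.IsIntegral B1 N] {r : ℕ}
    (hdim : ((r + 2 : ℕ) : WithBot ℕ∞) ≤ ringKrullDim B1) (f : Fin r → B1)
    (hf : ∀ i, f i ∈ maximalIdeal B1) :
    IsConnected {x : PrimeSpectrum N |
      (∀ i, algebraMap B1 N (f i) ∈ x.asIdeal) ∧ x ≠ closedPoint N} := by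
  classical
  have hN : IsNoetherianRing B1 := hG.1
  have hset : {x : PrimeSpectrum N | (∀ i, algebraMap B1 N (f i) ∈ x.asIdeal) ∧
      x ≠ closedPoint N} = {x : PrimeSpectrum N |
        (∀ i, algebraMap B1 N (f i) ∈ x.asIdeal) ∧ ¬ x.asIdeal.IsMaximal} := by
    ext x
    refine and_congr_right fun _ => not_congr ⟨fun h => ?_, fun h => ?_⟩
    · rw [h]
      exact maximalIdeal.isMaximal N
    · exact PrimeSpectrum.ext (IsLocalRing.eq_maximalIdeal h)
  rw [hset]
  have hfaith : FaithfulSMul B1 (FractionRing N) := by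
    rw [faithfulSMul_iff_algebraMap_injective, IsScalarTower.algebraMap_eq B1 N (FractionRing N)]
    exact (IsFractionRing.injective N (FractionRing N)).comp
      (FaithfulSMul.algebraMap_injective B1 N)
  let _ : Algebra (FractionRing B1) (FractionRing N) := FractionRing.liftAlgebra B1 (FractionRing N)
  have hst : IsScalarTower B1 (FractionRing B1) (FractionRing N) :=
    FractionRing.isScalarTower_liftAlgebra B1 (FractionRing N)
  have halg : Algebra.IsAlgebraic (FractionRing B1) (FractionRing N) := by
    have h1 : Algebra.IsAlgebraic B1 N := inferInstance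
    have h2 : Algebra.IsAlgebraic B1 (FractionRing N) :=
      (IsFractionRing.isAlgebraic_iff' B1 N (FractionRing N)).1 h1
    exact (IsFractionRing.comap_isAlgebraic_iff (A := B1) (K := FractionRing B1)
      (C := FractionRing N)).1 h2
  have hconn := fun (F : IntermediateField (FractionRing B1) (FractionRing N))
    [FiniteDimensional (FractionRing B1) F] => isConnected_sub (N := N) hG hdim f hf F
  refine ⟨?_, ?_⟩
  · obtain ⟨z, hz⟩ := (hconn ⊥).nonempty
    have hint : Algebra.IsIntegral (sub B1 N (FractionRing B1) (FractionRing N) ⊥) N :=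
      Algebra.IsIntegral.tower_top B1
    obtain ⟨x, hx⟩ := Groth.Agent.FlatA.DimFin.comap_surjective_of_isIntegral
      (sub B1 N (FractionRing B1) (FractionRing N) ⊥) N Subtype.val_injective z
    subst hx
    exact ⟨x, fun i => hz.1 i, fun h => hz.2 (Ideal.isMaximal_comap_of_isIntegral_of_isMaximal _)⟩
  · refine isPreconnected_of_cofinal (IsNoetherian.noetherian _) f fun s => ?_
    have hF : FiniteDimensional (FractionRing B1) (IntermediateField.adjoin (FractionRing B1)
        ((s.image (algebraMap N (FractionRing N)) : Finset (FractionRing N)) :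
          Set (FractionRing N))) :=
      IntermediateField.finiteDimensional_adjoin
        (fun x _ => (halg.isAlgebraic x).isIntegral)
    refine ⟨sub B1 N (FractionRing B1) (FractionRing N)
      (IntermediateField.adjoin (FractionRing B1)
        ((s.image (algebraMap N (FractionRing N)) : Finset (FractionRing N)) :
          Set (FractionRing N))), fun x hx => ?_, (hconn _).isPreconnected⟩
    rw [mem_sub]
    exact IntermediateField.subset_adjoin _ _ (Finset.mem_coe.2 (Finset.mem_image_of_mem _ hx))

end K155.ConnInt
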