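import Groth.Agent.EtAcyc.K155.ModelDim
import Groth.Agent.EtAcyc.K168.AsphDef
import Groth.Agent.EtAcyc.K168.NormTens
import Groth.Agent.EtAcyc.K168.SLTools
import Groth.Agent.Sga2lef.H85.UnibNormal
import Groth.Agent.Sga3.H818.Glue
import Groth.Agent.S2046
import Groth.Agent.S0599
import Groth.Agent.Sga1.UlaSL
import Groth.Agent.S0541
import Groth.Agent.Etbc.H208.TrdegCount
import Groth.Agent.Etrest.StrictLocInt
import Groth.Agent.Etrest.VCBaseChange

/-!
# Noetherian models of strict localizations over the test rings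
-/

set_option autoImplicit false
universe u

open TensorProduct IsLocalRing CategoryTheory CategoryTheory.Limits AlgebraicGeometry

namespace K155.Model

open Groth.Agent.Etrest.StrictLoc Groth.Agent.Sga1.UlaSL K168.AsphDef

section Stalk

variable {T B₁ : Type u} [CommRing T] [CommRing B₁] [IsLocalRing B₁] (ε₁ : T →+* B₁)

/-- A strict localization of an affine scheme in terms of the local ring. -/
theorem exists_stalk (h : IsStrictLoc (spm ε₁)) :
    ∃ (A : Type u) (_ : CommRing A) (_ : IsLocalRing A) (_ : Algebra T A)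
      (_ : IsLocalization.AtPrime A ((maximalIdeal B₁).comap ε₁)) (_ : Algebra A B₁)
      (_ : IsLocalHom (algebraMap A B₁)), Hensel.IsStrictHenselization A B₁ ∧
      ε₁ = (algebraMap A B₁).comp (algebraMap T A) := by
  obtain ⟨i1, i2, i3, h4⟩ := exists_specOf h _ rfl
  let q : PrimeSpectrum T := (spm ε₁) (closedPoint B₁)
  have i1' : Algebra ((Spec (CommRingCat.of T)).presheaf.stalk q) B₁ := i1
  let _ : Algebra T ((Spec (CommRingCat.of T)).presheaf.stalk q) :=
    (show Algebra T ((Spec.structureSheaf T).presheaf.stalk q) from inferInstance)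
  have hloc : IsLocalization.AtPrime ((Spec (CommRingCat.of T)).presheaf.stalk q) q.asIdeal :=
    (show IsLocalization.AtPrime ((Spec.structureSheaf T).presheaf.stalk q) q.asIdeal from inferInstance)
  have h5 : (Spec (CommRingCat.of T)).fromSpecStalk q =
      spm (algebraMap T ((Spec (CommRingCat.of T)).presheaf.stalk q)) :=
    Spec.fromSpecStalk_eq' (CommRingCat.of T) q
  refine ⟨(Spec (CommRingCat.of T)).presheaf.stalk q, inferInstance, inferInstance, inferInstance, hloc, i1, i2, i3, ?_⟩
  rw [← spm_inj, spm_comp, ← h5]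
  exact h4.symm

/-- The dimension of a strict localization. -/
theorem ringKrullDim_eq (h : IsStrictLoc (spm ε₁)) :
    ringKrullDim B₁ = ((maximalIdeal B₁).comap ε₁).height := by
  obtain ⟨A, _, _, _, i4, _, i6, h7, -⟩ := exists_stalk ε₁ h
  rw [Groth.Agent.S0541.result A B₁]
  exact IsLocalization.AtPrime.ringKrullDim_eq_height _ A

/-- Strict localizations of G-rings are G-rings. -/
theorem isGRing (hT : CAlg.IsGRing T) (h : IsStrictLoc (spm ε₁)) : CAlg.IsGRing B₁ := by
  obtain ⟨i1, i2, i3, h4⟩ := exists_specOf h _ rfl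
  have h5 : CAlg.IsGRing ((Spec (CommRingCat.of T)).presheaf.stalk ((spm ε₁) (closedPoint B₁))) :=
    Groth.Agent.Sga2lef.H85.UnibNormal.isGRing_stalk hT (𝟙 _) _
  have := h5.1
  exact Groth.Agent.S2046.result h5

/-- Injectivity is tested on the base. -/
theorem injective_of_comp [IsDomain T] [IsIntegrallyClosed T] (h : IsStrictLoc (spm ε₁)) {B : Type u} [CommRing B]
    [IsDomain B] (g : B₁ →+* B) (hg : Function.Injective (g.comp ε₁)) : Function.Injective g := by
  obtain ⟨hd, -, hinj⟩ := K168.SLTools.normal_of_isStrictLoc ε₁ h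
  obtain ⟨A, _, _, _, i4, _, i6, h7, h8⟩ := exists_stalk ε₁ h
  have hle := ((maximalIdeal B₁).comap ε₁).primeCompl_le_nonZeroDivisors
  have hA : IsDomain A := IsLocalization.isDomain_of_le_nonZeroDivisors _ hle
  have hAB : Function.Injective (algebraMap A B₁) := by
    rw [injective_iff_map_eq_zero]
    intro a ha
    obtain ⟨t, s, rfl⟩ := IsLocalization.exists_mk'_eq ((maximalIdeal B₁).comap ε₁).primeCompl a
    have h9 : algebraMap A B₁ (algebraMap T A t) = 0 := by
      rw [← IsLocalization.mk'_spec A t s, map_mul, ha, zero_mul]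
    have h10 : ε₁ t = 0 := by rw [h8]; exact h9
    have h11 : t = 0 := hinj (h10.trans (map_zero _).symm)
    rw [h11, IsLocalization.mk'_zero]
  have halg : Algebra.IsAlgebraic A B₁ := Groth.Agent.Etbc.H208.TrdegCount.isAlgebraic_strictHens A B₁ hAB
  rw [injective_iff_map_eq_zero]
  intro b hb
  by_contra hb0
  have h9 := Ideal.comap_ne_bot_of_algebraic_mem (R := A) (I := RingHom.ker g) hb0 hb (halg.isAlgebraic b)
  apply h9
  rw [eq_bot_iff]
  intro a ha
  obtain ⟨t, s, rfl⟩ := IsLocalization.exists_mk'_eq ((maximalIdeal B₁).comap ε₁).primeCompl a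
  have h10 : g (algebraMap A B₁ (algebraMap T A t)) = 0 := by
    rw [← IsLocalization.mk'_spec A t s, map_mul, map_mul]
    have : g (algebraMap A B₁ (IsLocalization.mk' A t s)) = 0 := ha
    rw [this, zero_mul]
  have h11 : t = 0 := by
    apply hg
    rw [map_zero, RingHom.comp_apply, h8]
    exact h10
  rw [h11, IsLocalization.mk'_zero]
  exact Ideal.zero_mem _

end Stalk

/-- Base change of an algebra map. -/
theorem isPullback_tensor {D R S C : Type u} [CommRing D] [CommRing R] [CommRing S] [CommRing C] [Algebra D R]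
    [Algebra D S] [Algebra D C] (f : R →ₐ[D] S) :
    IsPullback (spm (Algebra.TensorProduct.map f (AlgHom.id D C)).toRingHom) (spm (algebraMap S (S ⊗[D] C)))
      (spm (algebraMap R (R ⊗[D] C))) (spm f.toRingHom) := by
  have h1 := CommRingCat.isPushout_tensorProduct D R C
  have h2 := CommRingCat.isPushout_tensorProduct D S C
  have h3 : IsPushout (CommRingCat.ofHom (algebraMap D R) ≫ CommRingCat.ofHom f.toRingHom)
      (CommRingCat.ofHom (algebraMap D C)) (CommRingCat.ofHom (algebraMap S (S ⊗[D] C)))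
      (CommRingCat.ofHom (Algebra.TensorProduct.includeRight : C →ₐ[D] R ⊗[D] C).toRingHom ≫
        CommRingCat.ofHom (Algebra.TensorProduct.map f (AlgHom.id D C)).toRingHom) := by
    convert h2 using 1
    · rw [← CommRingCat.ofHom_comp]
      congr 1
      exact f.comp_algebraMap
    · rw [← CommRingCat.ofHom_comp]
      congr 1
      ext c
      simp
  have h4 := IsPushout.of_left h3 (by
    rw [← CommRingCat.ofHom_comp, ← CommRingCat.ofHom_comp]
    congr 1) h1
  exact (isPullback_SpecMap_of_isPushout _ _ _ _ h4).flip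

/-- Injectivity of base changes. -/
theorem injective_tensor {D R S C : Type u} [CommRing D] [CommRing R] [CommRing S] [CommRing C] [Algebra D R]
    [Algebra D S] [Algebra D C] (f : R →ₐ[D] S) (hf : Function.Injective f) [Module.Flat R (R ⊗[D] C)] :
    Function.Injective (Algebra.TensorProduct.map f (AlgHom.id D C)) := by
  let _ : Algebra R S := f.toRingHom.toAlgebra
  have hst : IsScalarTower D R S := IsScalarTower.of_algebraMap_eq fun d => (f.commutes d).symm
  let Φ : S ⊗[R] (R ⊗[D] C) ≃ₐ[S] S ⊗[D] C := Algebra.TensorProduct.cancelBaseChange D R S S C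
  have h1 : Function.Injective (TensorProduct.mk R S (R ⊗[D] C) 1) := by
    have h2 : Function.Injective (LinearMap.rTensor (R ⊗[D] C) (Algebra.linearMap R S)) :=
      Module.Flat.rTensor_preserves_injective_linearMap _ hf
    intro a b hab
    apply (TensorProduct.lid R (R ⊗[D] C)).symm.injective
    apply h2
    simpa using hab
  have h3 : ∀ x, Algebra.TensorProduct.map f (AlgHom.id D C) x = Φ (1 ⊗ₜ x) := by
    intro x
    induction x with
    | zero => simp
    | tmul e c =>
      rw [Algebra.TensorProduct.map_tmul, Algebra.TensorProduct.cancelBaseChange_tmul]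
      simp [Algebra.smul_def]
      rfl
    | add x y hx hy => rw [map_add, hx, hy, TensorProduct.tmul_add, map_add]
  intro a b hab
  rw [h3, h3] at hab
  exact h1 (Φ.injective hab)

/-- Integral base change. -/
theorem isIntegral_aeval {D C E : Type u} [CommRing D] [CommRing C] [Algebra D C] [CommRing E] [Algebra D E]
    {m : ℕ} (x : Fin m → C) (hfin : (MvPolynomial.aeval x : MvPolynomial (Fin m) D →ₐ[D] C).toRingHom.IsIntegral) :
    (MvPolynomial.aeval (R := E) fun i => ((1 : E) ⊗ₜ[D] x i)).toRingHom.IsIntegral := by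
  intro t
  induction t with
  | zero => exact RingHom.isIntegralElem_zero _
  | add a b ha hb => exact RingHom.IsIntegralElem.add _ ha hb
  | tmul e c =>
    have h1 : e ⊗ₜ[D] c = (MvPolynomial.aeval (R := E) fun i => ((1 : E) ⊗ₜ[D] x i)).toRingHom (MvPolynomial.C e) *
        (Algebra.TensorProduct.includeRight : C →ₐ[D] E ⊗[D] C).toRingHom c := by
      simp [Algebra.TensorProduct.algebraMap_apply]
    rw [h1]
    refine RingHom.IsIntegralElem.mul _ (RingHom.isIntegralElem_map _) ?_
    obtain ⟨p, hp, hpc⟩ := hfin c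
    refine ⟨p.map (MvPolynomial.map (algebraMap D E)), hp.map _, ?_⟩
    rw [Polynomial.eval₂_map]
    have h2 : ((MvPolynomial.aeval (R := E) fun i => ((1 : E) ⊗ₜ[D] x i)).toRingHom).comp
        (MvPolynomial.map (algebraMap D E)) =
        ((Algebra.TensorProduct.includeRight : C →ₐ[D] E ⊗[D] C).toRingHom).comp
          (MvPolynomial.aeval x : MvPolynomial (Fin m) D →ₐ[D] C).toRingHom := by
      apply MvPolynomial.ringHom_ext
      · intro r
        simp
      · intro i
        simp
    rw [h2, ← Polynomial.hom_eval₂, hpc, map_zero]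

/-- Elements integral over a subring contained in the image are integral. -/
theorem isIntegral_of_subring {E O : Type u} [CommRing E] [CommRing O] [Algebra E O] (C₀ : Subring O)
    (h : ∀ c : C₀, (c : O) ∈ Set.range (algebraMap E O)) {y : O} (hy : IsIntegral C₀ y) : IsIntegral E y := by
  obtain ⟨p, hp, hpy⟩ := hy
  have h1 : p.map C₀.subtype ∈ Polynomial.lifts (algebraMap E O) := by
    rw [Polynomial.lifts_iff_coeff_lifts]
    intro n
    rw [Polynomial.coeff_map]
    exact h _
  obtain ⟨q, hq, -, hqm⟩ := Polynomial.lifts_and_natDegree_eq_and_monic h1 (hp.map _)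
  refine ⟨q, hqm, ?_⟩
  rw [← Polynomial.eval_map, hq, Polynomial.eval_map]
  exact hpy

/-- Localization of the integral closure. -/
theorem isLocalization_integralClosure {E O : Type u} [CommRing E] [CommRing O] [Algebra E O]
    (h : ∀ x : O, ∃ s a : O, IsIntegral E s ∧ IsIntegral E a ∧ IsUnit s ∧ s * x = a) :
    IsLocalization ((IsUnit.submonoid O).comap (algebraMap (integralClosure E O) O)) O where
  map_units s := s.2
  surj x := by
    obtain ⟨s, a, hs, ha, hu, hx⟩ := h x
    refine ⟨(⟨a, ha⟩, ⟨⟨s, hs⟩, hu⟩), ?_⟩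
    change x * s = a
    rw [mul_comm, hx]
  exists_of_eq {a b} hab := ⟨1, by rw [Subtype.ext hab]⟩

/-- **Noetherian models** of strict localizations over the test rings. -/
theorem exists_model {D C O B : Type u} [CommRing D] [Algebra.FiniteType ℤ D] [CommRing C] [Algebra D C]
    [Algebra.FiniteType D C] [CommRing O] [Algebra D O] (hO : TP O) (hOf : ¬ IsField O) [CommRing B]
    [IsLocalRing B] (ε : O ⊗[D] C →+* B) (hε : IsStrictLoc (spm ε))
    (hloc : IsLocalHom (ε.comp (algebraMap O (O ⊗[D] C)))) {m : ℕ} (x : Fin m → C)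
    (hfin : (MvPolynomial.aeval x : MvPolynomial (Fin m) D →ₐ[D] C).toRingHom.Finite)
    (hbc : ∀ (E : Type u) [CommRing E] [IsDomain E] [IsNoetherianRing E] [IsIntegrallyClosed E] [Algebra D E],
      IsDomain (E ⊗[D] C) ∧ IsIntegrallyClosed (E ⊗[D] C) ∧ Module.Flat E (E ⊗[D] C) ∧
        Function.Injective (MvPolynomial.aeval (R := E) fun i => ((1 : E) ⊗ₜ[D] x i)))
    (hx : ∀ i, ε (1 ⊗ₜ x i) ∈ maximalIdeal B) :
    ∃ (B₁ : Type u) (_ : CommRing B₁) (_ : IsDomain B₁) (_ : IsLocalRing B₁) (_ : Algebra B₁ B) (γ : C →+* B₁),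
      CAlg.IsGRing B₁ ∧ Algebra.IsIntegral B₁ B ∧ Function.Injective (algebraMap B₁ B) ∧
      (∀ c, algebraMap B₁ B (γ c) = ε (1 ⊗ₜ c)) ∧ ((m + 1 : ℕ) : WithBot ℕ∞) ≤ ringKrullDim B₁ := by
  classical
  have hOd : IsDomain O := hO.isDomain
  have hOl : IsLocalRing O := hO.isLocal
  have hOn : IsIntegrallyClosed O := ModelDim.isIntegrallyClosed_of_aic O hO.aic
  have hBh : HenselianLocalRing B := hε.henselian
  have hBs : IsSepClosed (ResidueField B) := hε.sepClosed
  obtain ⟨C₀, hC₀, hmod⟩ := hO.model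
  obtain ⟨s, hs⟩ := hC₀.out
  obtain ⟨E, _, hEd, hEn, _, j, hEft, hj, hjs⟩ :=
    K168.NormTens.exists_normal_sub D O (s.image Subtype.val)
  have hEN : IsNoetherianRing E := Algebra.FiniteType.isNoetherianRing ℤ _
  let _ : Algebra E O := j.toRingHom.toAlgebra
  have hst : IsScalarTower D E O := IsScalarTower.of_algebraMap_eq fun d => (j.commutes d).symm
  have hC₀E : ∀ c : C₀, (c : O) ∈ Set.range (algebraMap E O) := by
    intro c
    have hc : c ∈ Algebra.adjoin ℤ (s : Set C₀) := by rw [hs]; trivial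
    induction hc using Algebra.adjoin_induction with
    | mem x hx => exact hjs _ (Finset.mem_image_of_mem _ hx)
    | algebraMap r => exact ⟨(r : E), by simp⟩
    | add x y _ _ hx hy =>
      obtain ⟨a, ha⟩ := hx
      obtain ⟨b, hb⟩ := hy
      exact ⟨a + b, by rw [map_add, ha, hb]; rfl⟩
    | mul x y _ _ hx hy =>
      obtain ⟨a, ha⟩ := hx
      obtain ⟨b, hb⟩ := hy
      exact ⟨a * b, by rw [map_mul, ha, hb]; rfl⟩
  have hmod' : ∀ x : O, ∃ s a : O, IsIntegral E s ∧ IsIntegral E a ∧ IsUnit s ∧ s * x = a := by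
    intro x
    obtain ⟨s, a, h1, h2, h3, h4⟩ := hmod x
    exact ⟨s, a, isIntegral_of_subring C₀ hC₀E h1, isIntegral_of_subring C₀ hC₀E h2, h3, h4⟩
  have hlocE := isLocalization_integralClosure hmod'
  obtain ⟨hTd, hTn, hTfl, hTinj⟩ := hbc E
  obtain ⟨hWd, hWn, -⟩ := K168.NormTens.normal_tensor D C O fun E' _ _ _ _ _ =>
    ⟨(hbc E').1, (hbc E').2.1, (hbc E').2.2.1⟩
  obtain ⟨hBd, -, hεinj⟩ := K168.SLTools.normal_of_isStrictLoc ε hε
  -- the maps
  let i1 : E →ₐ[D] integralClosure E O := IsScalarTower.toAlgHom D E (integralClosure E O)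
  let i2 : integralClosure E O →ₐ[D] O := (integralClosure E O).val.restrictScalars D
  have hji : i2.comp i1 = j := AlgHom.ext fun e => rfl
  let φ : E ⊗[D] C →+* O ⊗[D] C := (Algebra.TensorProduct.map j (AlgHom.id D C)).toRingHom
  let θ : E ⊗[D] C →+* (integralClosure E O) ⊗[D] C :=
    (Algebra.TensorProduct.map i1 (AlgHom.id D C)).toRingHom
  let ψ : (integralClosure E O) ⊗[D] C →+* O ⊗[D] C :=
    (Algebra.TensorProduct.map i2 (AlgHom.id D C)).toRingHom
  have hψθ : ψ.comp θ = φ := by
    have h1 : (Algebra.TensorProduct.map i2 (AlgHom.id D C)).comp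
        (Algebra.TensorProduct.map i1 (AlgHom.id D C)) =
        Algebra.TensorProduct.map j (AlgHom.id D C) := by
      rw [← Algebra.TensorProduct.map_comp, hji]
      rfl
    exact congrArg AlgHom.toRingHom h1
  have hφinj : Function.Injective φ := injective_tensor j hj
  -- weakly étale
  have hweO : WeaklyEtale (spm i2.toRingHom) :=
    K168.SLTools.weaklyEtale_spm_of_isLocalization
      (T := integralClosure E O) (T' := O) ((IsUnit.submonoid O).comap (algebraMap (integralClosure E O) O))
  have hweψ : WeaklyEtale (spm ψ) := MorphismProperty.of_isPullback (isPullback_tensor i2).flip hweO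
  have hεp : IsStrictLoc (spm (ε.comp ψ)) := by
    rw [spm_comp]
    exact hε.comp (spm ψ)
  have hintE : IsIntegralHom (spm i1.toRingHom) := by
    rw [IsIntegralHom.SpecMap_iff]
    exact (algebraMap_isIntegral_iff (R := E) (A := integralClosure E O)).2 inferInstance
  have hintθ : IsIntegralHom (spm θ) := MorphismProperty.of_isPullback (isPullback_tensor i1).flip hintE
  -- the model
  obtain ⟨B₁, _, _, τ, hτ, hτP⟩ := exists_isStrictLoc (Spec (CommRingCat.of (E ⊗[D] C)))
    ((spm (ε.comp φ)) (closedPoint B))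
  obtain ⟨ε₁, rfl⟩ : ∃ ε₁ : E ⊗[D] C →+* B₁, spm ε₁ = τ := ⟨(Spec.preimage τ).hom, Spec.map_preimage τ⟩
  obtain ⟨hB₁d, -, -⟩ := K168.SLTools.normal_of_isStrictLoc ε₁ hτ
  obtain ⟨g, hgl, hg⟩ := Groth.Agent.Etrest.VCBaseChange.exists_map hτ (spm (ε.comp φ)) hτP.symm
  have hgε : g.comp ε₁ = ε.comp φ := by
    rw [← spm_inj, spm_comp]
    exact hg
  have hgint : g.IsIntegral := by
    have hB₁h : HenselianLocalRing B₁ := hτ.henselian
    refine Groth.Agent.Etrest.StrictLocInt.isIntegral_of_isStrictLoc (g := spm θ) hτ hεp g ?_ ?_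
    · rw [hg, ← hψθ, ← RingHom.comp_assoc, spm_comp]
    · intro w hw α₀ hα₀
      exact Groth.Agent.Etrest.StrictLocInt.isIntegral_stalk_of_isIntegralHom
        (pullback.snd (spm θ) (spm ε₁)) w hw α₀ hα₀
  have hginj : Function.Injective g := injective_of_comp ε₁ hτ g (by
    rw [hgε]
    exact hεinj.comp hφinj)
  -- the prime
  have hmB : (maximalIdeal B₁).comap ε₁ = (maximalIdeal B).comap (ε.comp φ) := by
    rw [← hgε, ← Ideal.comap_comap]
    congr 1
    exact (IsLocalRing.maximalIdeal_comap g).symm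
  -- G-ring
  have hEG : CAlg.IsGRing E := Groth.Agent.Sga3.H818.Glue.isGRing_of_finiteType_int E
  have hTG : CAlg.IsGRing (E ⊗[D] C) := Groth.Agent.S0599.result E hEG _
  let _ : Algebra B₁ B := g.toAlgebra
  refine ⟨B₁, inferInstance, hB₁d, inferInstance, g.toAlgebra,
    ε₁.comp (Algebra.TensorProduct.includeRight : C →ₐ[D] E ⊗[D] C).toRingHom,
    isGRing ε₁ hTG hτ, ⟨hgint⟩, hginj, ?_, ?_⟩
  · intro c
    have h1 : g (ε₁ ((1 : E) ⊗ₜ[D] c)) = ε (φ ((1 : E) ⊗ₜ[D] c)) := DFunLike.congr_fun hgε _
    have h2 : φ ((1 : E) ⊗ₜ[D] c) = (1 : O) ⊗ₜ[D] c := by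
      change Algebra.TensorProduct.map j (AlgHom.id D C) ((1 : E) ⊗ₜ[D] c) = _
      rw [Algebra.TensorProduct.map_tmul, map_one]
      rfl
    rw [h2] at h1
    exact h1
  · rw [ringKrullDim_eq ε₁ hτ, hmB]
    let _ : Algebra (MvPolynomial (Fin m) E) (E ⊗[D] C) :=
      (MvPolynomial.aeval (R := E) fun i => ((1 : E) ⊗ₜ[D] x i)).toRingHom.toAlgebra
    have hf : FaithfulSMul (MvPolynomial (Fin m) E) (E ⊗[D] C) :=
      (faithfulSMul_iff_algebraMap_injective _ _).2 hTinj
    have hi : Algebra.IsIntegral (MvPolynomial (Fin m) E) (E ⊗[D] C) :=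
      ⟨isIntegral_aeval x hfin.to_isIntegral⟩
    have hP : ((maximalIdeal B).comap (ε.comp φ)).IsPrime := Ideal.comap_isPrime _ _
    have h1 : ((m + 1 : ℕ) : ℕ∞) ≤ ((maximalIdeal B).comap (ε.comp φ)).height := by
      refine ModelDim.le_height (E := E) (m := m) _ ?_ ?_
      · obtain ⟨y, hy, hy0⟩ : ∃ y ∈ maximalIdeal O, y ≠ 0 := by
          by_contra hcon
          push Not at hcon
          apply hOf
          rw [IsLocalRing.isField_iff_maximalIdeal_eq, eq_bot_iff]
          intro y hy
          exact hcon y hy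
        obtain ⟨s', a, h1, h2, h3, h4⟩ := hmod' y
        have ha : a ∈ maximalIdeal O := h4 ▸ Ideal.mul_mem_left _ _ hy
        have ha0 : a ≠ 0 := by
          rw [← h4]
          exact mul_ne_zero h3.ne_zero hy0
        have h5 := Ideal.comap_ne_bot_of_integral_mem (I := maximalIdeal O) ha0 ha h2
        intro h6
        apply h5
        rw [eq_bot_iff, ← h6]
        intro e he
        change ε (φ ((MvPolynomial.aeval (R := E) fun i => ((1 : E) ⊗ₜ[D] x i)) (MvPolynomial.C e))) ∈
          maximalIdeal B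
        have h7 : φ ((MvPolynomial.aeval (R := E) fun i => ((1 : E) ⊗ₜ[D] x i)) (MvPolynomial.C e)) =
            algebraMap O (O ⊗[D] C) (algebraMap E O e) := by
          rw [MvPolynomial.aeval_C]
          change Algebra.TensorProduct.map j (AlgHom.id D C) (e ⊗ₜ[D] (1 : C)) = _
          rw [Algebra.TensorProduct.map_tmul, map_one]
          rfl
        rw [h7]
        by_contra h8
        rw [mem_maximalIdeal, mem_nonunits_iff, not_not] at h8
        exact (mem_maximalIdeal _).1 he (hloc.map_nonunit _ h8)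
      · intro i
        change ε (φ ((MvPolynomial.aeval (R := E) fun i => ((1 : E) ⊗ₜ[D] x i)) (MvPolynomial.X i))) ∈
          maximalIdeal B
        have h7 : φ ((MvPolynomial.aeval (R := E) fun i => ((1 : E) ⊗ₜ[D] x i)) (MvPolynomial.X i)) =
            (1 : O) ⊗ₜ[D] x i := by
          rw [MvPolynomial.aeval_X]
          change Algebra.TensorProduct.map j (AlgHom.id D C) ((1 : E) ⊗ₜ[D] x i) = _
          rw [Algebra.TensorProduct.map_tmul, map_one]
          rfl
        rw [h7]
        exact hx i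
    exact_mod_cast h1

end K155.Model
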