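import Groth.Agent.Ega4C.NormSep
import Mathlib.RingTheory.Ideal.GoingDown
import Mathlib.RingTheory.IntegralClosure.GoingDown
import Mathlib.RingTheory.Ideal.Height
import Mathlib.RingTheory.MvPolynomial.Basic
import Mathlib.FieldTheory.IsAlgClosed.Basic

/-!
# Chains of primes in integral extensions of polynomial rings
-/

set_option autoImplicit false
universe u

open MvPolynomial

namespace K155.ModelDim

section Chain

variable (E : Type u) [CommRing E] (p : Ideal E) (m : ℕ)

/-- `X_i ↦ 0` for `i < k`, modulo `p`. -/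
noncomputable def ev (k : ℕ) : MvPolynomial (Fin m) E →+* MvPolynomial (Fin m) (E ⧸ p) :=
  MvPolynomial.eval₂Hom (C.comp (Ideal.Quotient.mk p)) fun i => if (i : ℕ) < k then 0 else X i

theorem ev_comp (k : ℕ) : ((MvPolynomial.aeval (R := E ⧸ p) (S₁ := MvPolynomial (Fin m) (E ⧸ p))
    fun i : Fin m => if (i : ℕ) < k + 1 then 0 else X i).toRingHom).comp (ev E p m k) = ev E p m (k + 1) := by
  apply MvPolynomial.ringHom_ext
  · intro r
    simp [ev]
  · intro i
    simp only [ev, AlgHom.toRingHom_eq_coe, RingHom.coe_comp, Function.comp_apply, coe_eval₂Hom, eval₂_X,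
      RingHom.coe_coe]
    split_ifs with h1 h2
    · rw [map_zero]
    · exact absurd (Nat.lt_succ_of_lt h1) h2
    · simp; omega
    · simp; omega

theorem ker_lt [p.IsPrime] {k : ℕ} (hk : k < m) : RingHom.ker (ev E p m k) < RingHom.ker (ev E p m (k + 1)) := by
  refine lt_of_le_of_ne ?_ ?_
  · rw [← ev_comp]
    intro x hx
    rw [RingHom.mem_ker] at hx ⊢
    rw [RingHom.comp_apply, hx, map_zero]
  · intro h
    have h1 : (X ⟨k, hk⟩ : MvPolynomial (Fin m) E) ∈ RingHom.ker (ev E p m (k + 1)) := by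
      rw [RingHom.mem_ker]
      simp [ev]
    rw [← h, RingHom.mem_ker] at h1
    simp [ev] at h1

variable [IsDomain E] [p.IsPrime]

/-- The chain `0 ⊂ p ⊂ (p, X_0) ⊂ (p, X_0, X_1) ⊂ …`. -/
theorem exists_chain (hp : p ≠ ⊥) : ∃ l : LTSeries (PrimeSpectrum (MvPolynomial (Fin m) E)),
    l.length = m + 1 ∧ l.last.asIdeal = RingHom.ker (ev E p m m) := by
  let F : Fin (m + 2) → PrimeSpectrum (MvPolynomial (Fin m) E) :=
    Fin.cases ⟨⊥, Ideal.isPrime_bot⟩ fun k => ⟨RingHom.ker (ev E p m k), RingHom.ker_isPrime _⟩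
  have hF : StrictMono F := by
    rw [Fin.strictMono_iff_lt_succ]
    intro i
    refine Fin.cases ?_ (fun j => ?_) i
    · change (⟨⊥, Ideal.isPrime_bot⟩ : PrimeSpectrum (MvPolynomial (Fin m) E)) <
        ⟨RingHom.ker (ev E p m (0 : Fin (m + 1))), RingHom.ker_isPrime _⟩
      change (⊥ : Ideal (MvPolynomial (Fin m) E)) < _
      rw [bot_lt_iff_ne_bot]
      intro h
      apply hp
      rw [eq_bot_iff]
      intro x hx
      have h1 : (C x : MvPolynomial (Fin m) E) ∈ RingHom.ker (ev E p m (0 : Fin (m + 1))) := by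
        rw [RingHom.mem_ker]
        simp [ev, Ideal.Quotient.eq_zero_iff_mem.2 hx]
      have h2 : (C x : MvPolynomial (Fin m) E) ∈ (⊥ : Ideal (MvPolynomial (Fin m) E)) := h ▸ h1
      rw [Ideal.mem_bot, C_eq_zero] at h2
      exact h2
    · have h1 := ker_lt E p m (k := j) j.2
      exact h1
  refine ⟨LTSeries.mk (m + 1) F hF, rfl, ?_⟩
  change (F (Fin.last (m + 1))).asIdeal = _
  have : Fin.last (m + 1) = (Fin.last m).succ := rfl
  rw [this]
  rfl

theorem mem_ker_ev {f : MvPolynomial (Fin m) E} :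
    f ∈ RingHom.ker (ev E p m m) ↔ MvPolynomial.eval (fun _ => 0) f ∈ p := by
  have h : ev E p m m = (C.comp (Ideal.Quotient.mk p)).comp (MvPolynomial.eval (fun _ : Fin m => (0 : E))) := by
    apply MvPolynomial.ringHom_ext
    · intro r
      simp [ev]
    · intro i
      simp [ev]
  rw [RingHom.mem_ker, h, RingHom.comp_apply, RingHom.comp_apply, C_eq_zero, Ideal.Quotient.eq_zero_iff_mem]

end Chain

/-- The height of a prime containing the variables and a non-zero prime of the base. -/
theorem le_height {E T : Type u} [CommRing E] [IsDomain E] [IsIntegrallyClosed E] [CommRing T] [IsDomain T]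
    {m : ℕ} [Algebra (MvPolynomial (Fin m) E) T] [FaithfulSMul (MvPolynomial (Fin m) E) T]
    [Algebra.IsIntegral (MvPolynomial (Fin m) E) T] (P : Ideal T) [P.IsPrime]
    (h0 : (P.comap (algebraMap (MvPolynomial (Fin m) E) T)).comap (C : E →+* MvPolynomial (Fin m) E) ≠ ⊥)
    (hX : ∀ i, algebraMap (MvPolynomial (Fin m) E) T (X i) ∈ P) : ((m + 1 : ℕ) : ℕ∞) ≤ P.height := by
  have hic : IsIntegrallyClosed (MvPolynomial (Fin m) E) :=
    Groth.Agent.Ega4C.NormSep.isIntegrallyClosed_mvPolynomial (Fin m) E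
  let p : Ideal E := (P.comap (algebraMap (MvPolynomial (Fin m) E) T)).comap (C : E →+* MvPolynomial (Fin m) E)
  have hpp : p.IsPrime := Ideal.comap_isPrime _ _
  obtain ⟨l, hl1, hl2⟩ := exists_chain E p m h0
  have hle : l.last.asIdeal ≤ P.under (MvPolynomial (Fin m) E) := by
    rw [hl2]
    intro f hf
    rw [mem_ker_ev] at hf
    have h1 : ∀ g : MvPolynomial (Fin m) E,
        g - C (MvPolynomial.eval (fun _ => 0) g) ∈ P.under (MvPolynomial (Fin m) E) := by
      intro g
      induction g using MvPolynomial.induction_on with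
      | C a => simp
      | add a b ha hb =>
        have h2 := Ideal.add_mem _ ha hb
        rw [map_add, map_add]
        convert h2 using 1
        ring
      | mul_X a i ha =>
        rw [map_mul, MvPolynomial.eval_X, mul_zero, map_zero, sub_zero]
        exact Ideal.mul_mem_left _ _ (hX i)
    have h7 : C (MvPolynomial.eval (fun _ => 0) f) ∈ P.under (MvPolynomial (Fin m) E) := hf
    have h8 := Ideal.add_mem _ (h1 f) h7
    rwa [sub_add_cancel] at h8
  obtain ⟨P', hP', hP'p, hlo⟩ := Ideal.exists_ideal_le_liesOver_of_le (p := l.last.asIdeal)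
    (q := P.under (MvPolynomial (Fin m) E)) P hle
  obtain ⟨L, hL1, hL2, -⟩ := Ideal.exists_ltSeries_of_hasGoingDown l P'
  have h9 : ((m + 1 : ℕ) : ℕ∞) ≤ P'.height := by
    rw [← hl1, ← hL1]
    have h10 := Order.length_le_height_last (p := L)
    rw [hL2] at h10
    exact h10.trans_eq (PrimeSpectrum.height_eq_orderHeight (⟨P', hP'p⟩ : PrimeSpectrum T)).symm
  exact h9.trans (Ideal.height_mono hP')

/-- Absolutely integrally closed domains are normal. -/
theorem isIntegrallyClosed_of_aic (O : Type u) [CommRing O] [IsDomain O]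
    (h : ∀ p : Polynomial O, p.Monic → 0 < p.natDegree → ∃ x : O, p.IsRoot x) : IsIntegrallyClosed O := by
  rw [isIntegrallyClosed_iff (FractionRing O)]
  rintro x ⟨p, hp, hpx⟩
  obtain ⟨n, hn⟩ : ∃ n, p.natDegree = n := ⟨_, rfl⟩
  induction n generalizing p with
  | zero =>
    rw [hp.natDegree_eq_zero.1 hn, Polynomial.eval₂_one] at hpx
    exact absurd hpx one_ne_zero
  | succ n ih =>
    obtain ⟨a, ha⟩ := h p hp (by omega)
    have h1 := Polynomial.mul_divByMonic_eq_iff_isRoot.2 ha
    have hq : (p /ₘ (Polynomial.X - Polynomial.C a)).Monic := by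
      have := hp
      rw [← h1] at this
      exact (Polynomial.monic_X_sub_C a).of_mul_monic_left this
    have hd : (p /ₘ (Polynomial.X - Polynomial.C a)).natDegree = n := by
      rw [Polynomial.natDegree_divByMonic _ (Polynomial.monic_X_sub_C a), hn, Polynomial.natDegree_X_sub_C]
      rfl
    rw [← h1, Polynomial.eval₂_mul, mul_eq_zero] at hpx
    rcases hpx with h2 | h2
    · refine ⟨a, ?_⟩
      rw [Polynomial.eval₂_sub, Polynomial.eval₂_X, Polynomial.eval₂_C, sub_eq_zero] at h2
      exact h2.symm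
    · exact ih _ hq h2 hd

end K155.ModelDim
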