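import Groth.Agent.EtAcyc.K168.NiceDef
import Groth.Agent.EtAcyc.K155.Model
import Groth.Agent.FlatA.DimFin
import Mathlib.RingTheory.AlgebraicIndependent.Transcendental

/-!
# Good coordinates: substitutions, base change, quotients, dimensions
-/

set_option autoImplicit false
universe u

open TensorProduct

namespace K155.Nice

open K168.NiceDef

section Subst

variable {m : ℕ} {D : Type u} [CommRing D] (p : Fin m → Polynomial D)

/-- The substitution `X_i ↦ p_i(X_i)`. -/
noncomputable def sb : MvPolynomial (Fin m) D →ₐ[D] MvPolynomial (Fin m) D :=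
  MvPolynomial.aeval fun i => Polynomial.aeval (MvPolynomial.X i) (p i)

theorem sb_finite (hp : ∀ i, (p i).Monic) (hd : ∀ i, 0 < (p i).natDegree) : (sb p).toRingHom.Finite := by
  have hft : (sb p).toRingHom.FiniteType := by
    have h1 : ((sb p).toRingHom.comp (MvPolynomial.C : D →+* MvPolynomial (Fin m) D)).FiniteType := by
      have h2 : (sb p).toRingHom.comp (MvPolynomial.C : D →+* MvPolynomial (Fin m) D) =
          algebraMap D (MvPolynomial (Fin m) D) := by
        ext r
        simp [sb]
      rw [h2]
      exact RingHom.finiteType_algebraMap.2 inferInstance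
    exact h1.of_comp_finiteType
  refine RingHom.IsIntegral.to_finite (fun f => ?_) hft
  induction f using MvPolynomial.induction_on with
  | C a =>
    have h1 : (MvPolynomial.C a : MvPolynomial (Fin m) D) = (sb p).toRingHom (MvPolynomial.C a) := by
      simp [sb]
    rw [h1]
    exact RingHom.isIntegralElem_map _
  | add a b ha hb => exact RingHom.IsIntegralElem.add _ ha hb
  | mul_X a i ha =>
    refine RingHom.IsIntegralElem.mul _ ha ?_
    refine ⟨(p i).map (MvPolynomial.C : D →+* MvPolynomial (Fin m) D) - Polynomial.C (MvPolynomial.X i), ?_, ?_⟩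
    · refine ((hp i).map _).sub_of_left ?_
      refine lt_of_le_of_lt Polynomial.degree_C_le ?_
      rw [← Polynomial.natDegree_pos_iff_degree_pos]
      cases subsingleton_or_nontrivial D with
      | inl h =>
        exfalso
        have := hd i
        rw [Subsingleton.elim (p i) 0, Polynomial.natDegree_zero] at this
        exact lt_irrefl _ this
      | inr h =>
        rw [(hp i).natDegree_map]
        exact hd i
    · rw [Polynomial.eval₂_sub, Polynomial.eval₂_C, Polynomial.eval₂_map]
      have h1 : ((sb p).toRingHom).comp (MvPolynomial.C : D →+* MvPolynomial (Fin m) D) =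
          algebraMap D (MvPolynomial (Fin m) D) := by
        ext r
        simp [sb]
      rw [h1]
      have h2 : (sb p).toRingHom (MvPolynomial.X i) = Polynomial.aeval (MvPolynomial.X i) (p i) := by
        simp [sb]
      rw [h2]
      exact sub_self _

end Subst

/-- Substitution. -/
theorem subst {D C : Type u} [CommRing D] [CommRing C] [Algebra D C] {m : ℕ} {x : Fin m → C} (h : Pre D C x)
    (p : Fin m → Polynomial D) (hp : ∀ i, (p i).Monic) (hd : ∀ i, 0 < (p i).natDegree) :
    Pre D C (fun i => Polynomial.aeval (x i) (p i)) where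
  finite := by
    have h1 : (MvPolynomial.aeval (fun i => Polynomial.aeval (x i) (p i)) : MvPolynomial (Fin m) D →ₐ[D] C) =
        (MvPolynomial.aeval x : MvPolynomial (Fin m) D →ₐ[D] C).comp (sb p) := by
      ext i
      rw [MvPolynomial.aeval_X, AlgHom.comp_apply, sb, MvPolynomial.aeval_X, ← Polynomial.aeval_algHom_apply,
        MvPolynomial.aeval_X]
    rw [h1]
    exact RingHom.Finite.comp h.finite (sb_finite p hp hd)
  bc E _ _ _ _ _ := by
    obtain ⟨h1, h2, h3, h4⟩ := h.bc E
    refine ⟨h1, h2, h3, ?_⟩
    let q : Fin m → Polynomial E := fun i => (p i).map (algebraMap D E)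
    have hq : ∀ i, Transcendental E (q i) := by
      intro i
      refine Polynomial.transcendental _ ?_ ?_
      · rw [(hp i).natDegree_map]
        exact (hd i).ne'
      · rw [((hp i).map _).leadingCoeff]
        exact one_mem _
    have h5 : Function.Injective (sb q) := MvPolynomial.algebraicIndependent_polynomial_aeval_X q hq
    have h6 : (MvPolynomial.aeval (R := E) fun i => ((1 : E) ⊗ₜ[D] (Polynomial.aeval (x i) (p i)))) =
        (MvPolynomial.aeval (R := E) fun i => ((1 : E) ⊗ₜ[D] x i)).comp (sb q) := by
      ext i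
      have h7 : (1 : E) ⊗ₜ[D] (Polynomial.aeval (x i) (p i)) =
          Polynomial.aeval ((1 : E) ⊗ₜ[D] x i) (p i) := by
        have := Polynomial.aeval_algHom_apply (Algebra.TensorProduct.includeRight : C →ₐ[D] E ⊗[D] C) (x i) (p i)
        exact this.symm
      rw [MvPolynomial.aeval_X, h7, AlgHom.comp_apply, sb, MvPolynomial.aeval_X]
      rw [← Polynomial.aeval_algHom_apply, MvPolynomial.aeval_X]
      change _ = Polynomial.aeval _ ((p i).map (algebraMap D E))
      rw [Polynomial.aeval_map_algebraMap]
    rw [h6]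
    exact h4.comp h5

theorem finiteType_of_finite {D C : Type u} [CommRing D] [CommRing C] [Algebra D C] {m : ℕ} {x : Fin m → C}
    (h : (MvPolynomial.aeval x : MvPolynomial (Fin m) D →ₐ[D] C).toRingHom.Finite) : Algebra.FiniteType D C := by
  rw [← RingHom.finiteType_algebraMap]
  have h1 : algebraMap D C = (MvPolynomial.aeval x : MvPolynomial (Fin m) D →ₐ[D] C).toRingHom.comp
      (algebraMap D (MvPolynomial (Fin m) D)) := by
    ext r
    simp
  rw [h1]
  exact h.to_finiteType.comp (RingHom.finiteType_algebraMap.2 inferInstance)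

/-- Base change. -/
theorem baseChange {D C : Type u} [CommRing D] [CommRing C] [Algebra D C] {m : ℕ} {x : Fin m → C} (h : Pre D C x)
    (D' : Type u) [CommRing D'] [Algebra D D'] : Pre D' (D' ⊗[D] C) (fun i => (1 : D') ⊗ₜ[D] x i) where
  finite := by
    refine RingHom.IsIntegral.to_finite (Model.isIntegral_aeval x h.finite.to_isIntegral) ?_
    have hC : Algebra.FiniteType D C := finiteType_of_finite h.finite
    have hD' : Algebra.FiniteType D' (D' ⊗[D] C) := inferInstance
    have h1 : ((MvPolynomial.aeval (R := D') fun i => ((1 : D') ⊗ₜ[D] x i)).toRingHom.comp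
        (algebraMap D' (MvPolynomial (Fin m) D'))).FiniteType := by
      have h2 : (MvPolynomial.aeval (R := D') fun i => ((1 : D') ⊗ₜ[D] x i)).toRingHom.comp
          (algebraMap D' (MvPolynomial (Fin m) D')) = algebraMap D' (D' ⊗[D] C) := by
        ext r
        simp
      rw [h2]
      exact RingHom.finiteType_algebraMap.2 hD'
    exact h1.of_comp_finiteType
  bc E _ _ _ _ _ := by
    let _ : Algebra D E := ((algebraMap D' E).comp (algebraMap D D')).toAlgebra
    have hst : IsScalarTower D D' E := IsScalarTower.of_algebraMap_eq' rfl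
    obtain ⟨h1, h2, h3, h4⟩ := h.bc E
    let e : E ⊗[D'] (D' ⊗[D] C) ≃ₐ[E] E ⊗[D] C := Algebra.TensorProduct.cancelBaseChange D D' E E C
    refine ⟨e.toMulEquiv.isDomain _, IsIntegrallyClosed.of_equiv e.symm.toRingEquiv,
      Module.Flat.of_linearEquiv e.toLinearEquiv, ?_⟩
    have h5 : (MvPolynomial.aeval (R := E) fun i => ((1 : E) ⊗ₜ[D'] ((1 : D') ⊗ₜ[D] x i))) =
        (e.symm : E ⊗[D] C →ₐ[E] E ⊗[D'] (D' ⊗[D] C)).comp
          (MvPolynomial.aeval (R := E) fun i => ((1 : E) ⊗ₜ[D] x i)) := by
      ext i
      rw [MvPolynomial.aeval_X, AlgHom.comp_apply, MvPolynomial.aeval_X]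
      apply e.injective
      change e _ = e (e.symm _)
      rw [AlgEquiv.apply_symm_apply]
      simp [e]
    rw [h5]
    exact e.symm.injective.comp h4

/-- Quotient by all coordinates but the last one. -/
theorem quot {D C : Type u} [CommRing D] [CommRing C] [Algebra D C] {r : ℕ} (x : Fin (r + 1) → C)
    (h : (MvPolynomial.aeval x : MvPolynomial (Fin (r + 1)) D →ₐ[D] C).toRingHom.Finite) :
    (MvPolynomial.aeval (fun _ : Fin 1 => Ideal.Quotient.mk (Ideal.span (Set.range fun i : Fin r => x i.castSucc))
      (x (Fin.last r))) : MvPolynomial (Fin 1) D →ₐ[D]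
        C ⧸ Ideal.span (Set.range fun i : Fin r => x i.castSucc)).toRingHom.Finite := by
  let τ : MvPolynomial (Fin (r + 1)) D →ₐ[D] MvPolynomial (Fin 1) D :=
    MvPolynomial.aeval (Fin.lastCases (motive := fun _ => MvPolynomial (Fin 1) D) (MvPolynomial.X 0) fun _ => 0)
  have h1 : (MvPolynomial.aeval (fun _ : Fin 1 => Ideal.Quotient.mk (Ideal.span (Set.range fun i : Fin r =>
      x i.castSucc)) (x (Fin.last r))) : MvPolynomial (Fin 1) D →ₐ[D]
        C ⧸ Ideal.span (Set.range fun i : Fin r => x i.castSucc)).toRingHom.comp τ.toRingHom =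
      (Ideal.Quotient.mk (Ideal.span (Set.range fun i : Fin r => x i.castSucc))).comp
        (MvPolynomial.aeval x : MvPolynomial (Fin (r + 1)) D →ₐ[D] C).toRingHom := by
    apply MvPolynomial.ringHom_ext
    · intro a
      simp [τ]
    · intro i
      refine Fin.lastCases ?_ (fun j => ?_) i
      · simp [τ]
      · simp only [τ, AlgHom.toRingHom_eq_coe, RingHom.coe_comp, RingHom.coe_coe, Function.comp_apply,
          MvPolynomial.aeval_X, Fin.lastCases_castSucc, map_zero]
        symm
        rw [Ideal.Quotient.eq_zero_iff_mem]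
        exact Ideal.subset_span ⟨j, rfl⟩
  have h2 : ((Ideal.Quotient.mk (Ideal.span (Set.range fun i : Fin r => x i.castSucc))).comp
      (MvPolynomial.aeval x : MvPolynomial (Fin (r + 1)) D →ₐ[D] C).toRingHom).Finite :=
    RingHom.Finite.comp (RingHom.Finite.of_surjective _ Ideal.Quotient.mk_surjective) h
  rw [← h1] at h2
  exact h2.of_comp_finite

/-- The generic fibre dimension. -/
theorem dim {D C : Type u} [CommRing D] [IsDomain D] [CommRing C] [Algebra D C] {m : ℕ} (x : Fin m → C)
    (h : (MvPolynomial.aeval x : MvPolynomial (Fin m) D →ₐ[D] C).toRingHom.Finite) :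
    ringKrullDim (FractionRing D ⊗[D] C) ≤ (m : WithBot ℕ∞) := by
  let _ : Algebra (MvPolynomial (Fin m) (FractionRing D)) (FractionRing D ⊗[D] C) :=
    (MvPolynomial.aeval (R := FractionRing D) fun i => ((1 : FractionRing D) ⊗ₜ[D] x i)).toRingHom.toAlgebra
  have hi : Algebra.IsIntegral (MvPolynomial (Fin m) (FractionRing D)) (FractionRing D ⊗[D] C) :=
    ⟨Model.isIntegral_aeval x h.to_isIntegral⟩
  exact (Groth.Agent.FlatA.DimFin.ringKrullDim_le_of_isIntegral (MvPolynomial (Fin m) (FractionRing D)) _).trans
    (Groth.Agent.FlatA.DimFin.ringKrullDim_mvPolynomial_fin (FractionRing D) m).le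

/-- The generic fibre dimension over the line given by a coordinate. -/
theorem dim_poly {D C : Type u} [CommRing D] [IsDomain D] [CommRing C] [Algebra D C] {m : ℕ} (x : Fin (m + 1) → C)
    (h : (MvPolynomial.aeval x : MvPolynomial (Fin (m + 1)) D →ₐ[D] C).toRingHom.Finite) (i : Fin (m + 1)) :
    letI : Algebra (Polynomial D) C := (Polynomial.aeval (x i)).toRingHom.toAlgebra
    ringKrullDim (FractionRing (Polynomial D) ⊗[Polynomial D] C) ≤ (m : WithBot ℕ∞) := by
  let _ : Algebra (Polynomial D) C := (Polynomial.aeval (x i)).toRingHom.toAlgebra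
  refine dim (D := Polynomial D) (fun j => x (i.succAbove j)) ?_
  let τ : MvPolynomial (Fin (m + 1)) D →+* MvPolynomial (Fin m) (Polynomial D) :=
    MvPolynomial.eval₂Hom (MvPolynomial.C.comp Polynomial.C)
      (i.insertNth (α := fun _ => MvPolynomial (Fin m) (Polynomial D)) (MvPolynomial.C Polynomial.X)
        (fun j => MvPolynomial.X j))
  have h1 : (MvPolynomial.aeval (fun j => x (i.succAbove j)) :
      MvPolynomial (Fin m) (Polynomial D) →ₐ[Polynomial D] C).toRingHom.comp τ =
        (MvPolynomial.aeval x : MvPolynomial (Fin (m + 1)) D →ₐ[D] C).toRingHom := by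
    apply MvPolynomial.ringHom_ext
    · intro a
      simp only [τ, AlgHom.toRingHom_eq_coe, RingHom.coe_comp, RingHom.coe_coe, Function.comp_apply,
        MvPolynomial.coe_eval₂Hom, MvPolynomial.eval₂_C, MvPolynomial.aeval_C]
      change Polynomial.aeval (x i) (Polynomial.C a) = _
      rw [Polynomial.aeval_C]
    · intro k
      refine i.succAboveCases ?_ (fun j => ?_) k
      · simp only [τ, AlgHom.toRingHom_eq_coe, RingHom.coe_comp, RingHom.coe_coe, Function.comp_apply,
          MvPolynomial.coe_eval₂Hom, MvPolynomial.eval₂_X, Fin.insertNth_apply_same, MvPolynomial.aeval_C,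
          MvPolynomial.aeval_X]
        change Polynomial.aeval (x i) Polynomial.X = _
        rw [Polynomial.aeval_X]
      · simp [τ]
  rw [← h1] at h
  exact h.of_comp_finite

end K155.Nice
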